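import Mathlib

/-!
Morphisms locally essentially of finite type.
-/

set_option autoImplicit false
set_option linter.style.haveILetI false
set_option backward.isDefEq.respectTransparency false
set_option backward.isDefEq.respectTransparency.types false
universe u
open CategoryTheory CategoryTheory.Limits AlgebraicGeometry TopologicalSpace Opposite

namespace LocEFT13

variable {X Y Z : Scheme.{u}}

/-- `Γ(Y, U) → Γ(X, V)` is essentially of finite type. -/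
def EFT (f : X ⟶ Y) (U : Y.Opens) (V : X.Opens) : Prop :=
  ∃ e : V ≤ f ⁻¹ᵁ U, (f.appLE U V e).hom.EssFiniteType

theorem eft_id {U W : X.Opens} (hU : IsAffineOpen U) (a : Γ(X, U)) (hW : W = X.basicOpen a) :
    EFT (𝟙 X) U W := by
  subst hW
  refine ⟨X.basicOpen_le a, ?_⟩
  have := hU.isLocalization_basicOpen a
  rw [show Scheme.Hom.appLE (𝟙 X) U (X.basicOpen a) (X.basicOpen_le a) = X.presheaf.map (homOfLE (X.basicOpen_le a)).op by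
    simp [Scheme.Hom.appLE]]
  exact RingHom.EssFiniteType.holdsForLocalization Γ(X, X.basicOpen a) (.powers a)

theorem EFT.comp {f : X ⟶ Y} {g : Y ⟶ Z} {W : Z.Opens} {U : Y.Opens} {V : X.Opens}
    (hg : EFT g W U) (hf : EFT f U V) : EFT (f ≫ g) W V := by
  obtain ⟨e₁, h₁⟩ := hg
  obtain ⟨e₂, h₂⟩ := hf
  refine ⟨e₂.trans (f.preimage_mono e₁), ?_⟩
  rw [← Scheme.Hom.appLE_comp_appLE f g W U V e₁ e₂]
  exact h₁.comp h₂

theorem EFT.of_comp {f : X ⟶ Y} {g : Y ⟶ Z} {W : Z.Opens} {U : Y.Opens} {V : X.Opens}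
    (e₁ : U ≤ g ⁻¹ᵁ W) (e₂ : V ≤ f ⁻¹ᵁ U) (h : EFT (f ≫ g) W V) : EFT f U V := by
  obtain ⟨e, h⟩ := h
  refine ⟨e₂, ?_⟩
  rw [← Scheme.Hom.appLE_comp_appLE f g W U V e₁ e₂] at h
  exact RingHom.EssFiniteType.of_comp _ h

theorem exists_affine_basic {U : Y.Opens} (hU : IsAffineOpen U) {U' : Y.Opens} (hU' : IsAffineOpen U')
    {f : X ⟶ Y} {x : X} (hxU : f x ∈ U) {V : X.Opens} (hV : IsAffineOpen V) (hxV : x ∈ V)
    (hxU' : f x ∈ U') (h : EFT f U' V) :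
    ∃ V' : X.Opens, IsAffineOpen V' ∧ x ∈ V' ∧ EFT f U V' := by
  obtain ⟨a, a', haa, hxa⟩ := exists_basicOpen_le_affine_inter hU hU' (f x) ⟨hxU, hxU'⟩
  obtain ⟨e, he⟩ := h
  let b := f.appLE U' V e a'
  have hle : X.basicOpen b ≤ f ⁻¹ᵁ Y.basicOpen a := by
    rw [Scheme.basicOpen_appLE, haa]; exact inf_le_right
  refine ⟨X.basicOpen b, hV.basicOpen b, ?_, ?_⟩
  · rw [Scheme.basicOpen_appLE]; exact ⟨hxV, haa ▸ hxa⟩
  have h1 : EFT (𝟙 X ≫ f) U' (X.basicOpen b) := EFT.comp ⟨e, he⟩ (eft_id hV b rfl)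
  rw [Category.id_comp] at h1
  have h2 : EFT f (Y.basicOpen a) (X.basicOpen b) :=
    EFT.of_comp (g := 𝟙 Y) (haa.le.trans (Y.basicOpen_le a')) hle (by rwa [Category.comp_id])
  have h3 := EFT.comp (eft_id hU a rfl) h2
  rwa [Category.comp_id] at h3

/-- Locally essentially of finite type, every affine open. -/
def LEFT (f : X ⟶ Y) : Prop :=
  ∀ U : Y.affineOpens, ∃ T : Set X.affineOpens,
    (⋃ V ∈ T, ((V : X.Opens) : Set ↥X)) = ((f ⁻¹ᵁ (U : Y.Opens)) : Set ↥X) ∧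
      ∀ V ∈ T, EFT f U.1 V.1

theorem exists_cover (f : X ⟶ Y) (U : Y.affineOpens)
    (h : ∀ x : X, f x ∈ U.1 → ∃ V : X.Opens, IsAffineOpen V ∧ x ∈ V ∧ EFT f U.1 V) :
    ∃ T : Set X.affineOpens, (⋃ V ∈ T, ((V : X.Opens) : Set ↥X)) = ((f ⁻¹ᵁ (U : Y.Opens)) : Set ↥X) ∧
      ∀ V ∈ T, EFT f U.1 V.1 := by
  refine ⟨{V | EFT f U.1 V.1}, ?_, fun V hV => hV⟩
  ext x
  constructor
  · intro hx
    obtain ⟨V, ⟨e, -⟩, hxV⟩ := Set.mem_iUnion₂.1 hx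
    exact e hxV
  · intro hx
    obtain ⟨V, hV, hxV, he⟩ := h x hx
    exact Set.mem_iUnion₂.2 ⟨⟨V, hV⟩, he, hxV⟩

theorem mem_cover {f : X ⟶ Y} {U : Y.affineOpens} {T : Set X.affineOpens}
    (hT : (⋃ V ∈ T, ((V : X.Opens) : Set ↥X)) = ((f ⁻¹ᵁ (U : Y.Opens)) : Set ↥X)) {x : X}
    (hx : f x ∈ U.1) : ∃ V ∈ T, x ∈ V.1 := by
  obtain ⟨V, hV, hxV⟩ := Set.mem_iUnion₂.1 (hT.ge (show x ∈ f ⁻¹ᵁ U.1 from hx))
  exact ⟨V, hV, hxV⟩

theorem left_of_exists_cover (f : X ⟶ Y)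
    (h : ∃ S : Set Y.affineOpens, (⋃ U ∈ S, ((U : Y.Opens) : Set ↥Y)) = Set.univ ∧
      ∀ U ∈ S, ∃ T : Set X.affineOpens,
        (⋃ V ∈ T, ((V : X.Opens) : Set ↥X)) = ((f ⁻¹ᵁ (U : Y.Opens)) : Set ↥X) ∧
          ∀ V ∈ T, EFT f U.1 V.1) : LEFT f := by
  obtain ⟨S, hS, hS'⟩ := h
  intro U
  refine exists_cover f U fun x hx => ?_
  obtain ⟨U', hU'S, hxU'⟩ := Set.mem_iUnion₂.1 (hS.ge (Set.mem_univ (f x)))
  obtain ⟨T, hT, hT'⟩ := hS' U' hU'S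
  obtain ⟨V, hV, hxV⟩ := mem_cover hT hxU'
  exact exists_affine_basic U.2 U'.2 hx V.2 hxV hxU' (hT' V hV)

theorem exists_cover_of_left (f : X ⟶ Y) (h : LEFT f) :
    ∃ S : Set Y.affineOpens, (⋃ U ∈ S, ((U : Y.Opens) : Set ↥Y)) = Set.univ ∧
      ∀ U ∈ S, ∃ T : Set X.affineOpens,
        (⋃ V ∈ T, ((V : X.Opens) : Set ↥X)) = ((f ⁻¹ᵁ (U : Y.Opens)) : Set ↥X) ∧
          ∀ V ∈ T, EFT f U.1 V.1 := by
  refine ⟨Set.univ, Set.eq_univ_of_forall fun y => ?_, fun U _ => h U⟩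
  obtain ⟨U, hU, hyU, -⟩ := exists_isAffineOpen_mem_and_subset (x := y) (U := ⊤) trivial
  exact Set.mem_iUnion₂.2 ⟨⟨U, hU⟩, trivial, hyU⟩

theorem left_comp {f : X ⟶ Y} {g : Y ⟶ Z} (hf : LEFT f) (hg : LEFT g) : LEFT (f ≫ g) := by
  intro W
  refine exists_cover _ W fun x hx => ?_
  obtain ⟨T, hT, hT'⟩ := hg W
  obtain ⟨U, hU, hxU⟩ := mem_cover hT (show g (f x) ∈ W.1 from hx)
  obtain ⟨T', hT₁, hT₂⟩ := hf U
  obtain ⟨V, hV, hxV⟩ := mem_cover hT₁ hxU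
  exact ⟨V.1, V.2, hxV, EFT.comp (hT' U hU) (hT₂ V hV)⟩

theorem eft_iff_appTop (f : X ⟶ Y) {U : Y.Opens} {V : X.Opens} (e : V ≤ f ⁻¹ᵁ U) :
    (f.resLE U V e).appTop.hom.EssFiniteType ↔ (f.appLE U V e).hom.EssFiniteType :=
  RingHom.EssFiniteType.respectsIso.arrow_mk_iso_iff (arrowResLEAppIso f U V e)

theorem left_baseChange {Y' : Scheme.{u}} {f : X ⟶ Y} (g : Y' ⟶ Y) (hf : LEFT f) :
    LEFT (pullback.snd f g) := by
  intro U
  refine exists_cover _ U fun p hp => ?_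
  obtain ⟨U₀, hU₀, hxU₀, -⟩ :=
    exists_isAffineOpen_mem_and_subset (x := g (pullback.snd f g p)) (U := ⊤) trivial
  have hfx : f (pullback.fst f g p) ∈ U₀ := by
    rw [← Scheme.Hom.comp_apply, pullback.condition, Scheme.Hom.comp_apply]; exact hxU₀
  obtain ⟨T, hT, hT'⟩ := hf ⟨U₀, hU₀⟩
  obtain ⟨V, hV, hxV⟩ := mem_cover hT hfx
  obtain ⟨e, he⟩ := hT' V hV
  obtain ⟨a, ha, hxa⟩ := U.2.exists_basicOpen_le (V := g ⁻¹ᵁ U₀) ⟨pullback.snd f g p, hxU₀⟩ hp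
  let D : Y'.Opens := Y'.basicOpen a
  let W : (pullback f g).Opens := pullback.fst f g ⁻¹ᵁ V.1 ⊓ pullback.snd f g ⁻¹ᵁ D
  have hpb := Scheme.Hom.isPullback_resLE (IsPullback.of_hasPullback f g) (US := U₀) (UT := D) (UX := V.1)
    ha e (UY := W) rfl
  haveI : IsAffine V.1 := V.2
  haveI : IsAffine D := U.2.basicOpen a
  haveI : IsAffine U₀ := hU₀
  have hW : IsAffineOpen W := IsAffine.of_isPullback hpb
  refine ⟨W, hW, ⟨hxV, hxa⟩, ?_⟩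
  have hpo := (isPushout_appTop_of_isPullback hpb).flip
  have h1 := RingHom.EssFiniteType.isStableUnderBaseChange.pushout_inl RingHom.EssFiniteType.respectsIso
    (g.resLE U₀ D ha).appTop (f.resLE U₀ V.1 e).appTop ((eft_iff_appTop f e).2 he)
  rw [← IsPushout.inl_isoPushout_hom hpo, CommRingCat.hom_comp,
    RingHom.EssFiniteType.respectsIso.cancel_right_isIso] at h1
  have h2 : EFT (pullback.snd f g) D W := ⟨inf_le_right, (eft_iff_appTop _ _).1 h1⟩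
  have h3 := EFT.comp (eft_id U.2 a rfl) h2
  rwa [Category.comp_id] at h3

theorem left_iff_finite (f : X ⟶ Y) :
    (LEFT f ∧ QuasiCompact f) ↔ ∀ U : Y.affineOpens, ∃ T : Set X.affineOpens, T.Finite ∧
      (⋃ V ∈ T, ((V : X.Opens) : Set ↥X)) = ((f ⁻¹ᵁ (U : Y.Opens)) : Set ↥X) ∧
        ∀ V ∈ T, EFT f U.1 V.1 := by
  constructor
  · rintro ⟨h, hq⟩ U
    obtain ⟨T, hT, hT'⟩ := h U
    have hc : IsCompact ((f ⁻¹ᵁ (U : Y.Opens)) : Set ↥X) :=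
      f.isCompact_preimage U.2.isCompact
    obtain ⟨t, ht, htf, hts⟩ := hc.elim_finite_subcover_image (fun V _ => V.1.isOpen) hT.ge
    refine ⟨t, htf, subset_antisymm ?_ hts, fun V hV => hT' V (ht hV)⟩
    exact hT ▸ Set.biUnion_subset_biUnion_left ht
  · intro h
    refine ⟨fun U => ?_, (quasiCompact_iff_forall_isAffineOpen).2 fun U hU => ?_⟩
    · obtain ⟨T, -, h₁, h₂⟩ := h U; exact ⟨T, h₁, h₂⟩
    · obtain ⟨T, hTf, hT, -⟩ := h ⟨U, hU⟩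
      rw [← hT]
      exact hTf.isCompact_biUnion fun V _ => V.2.isCompact

end LocEFT13
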